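import Groth.Agent.Deform.GenSub.SpreadGeneric
import Groth.Agent.Deform.GenSub.Universal
import Groth.Agent.VarGeom.OpenMap
import Groth.Agent.GrpSchLib.FieldSmooth
import Groth.Agent.GrpSchLib.FieldTop
import Groth.Agent.GrpSchLib.MonoSubgroup
import Groth.Agent.SrcDescent.LocalAtSource
import Groth.Agent.AssLib.FlatField
import Groth.Agent.Triage.SchDense

/-!
# Dominant quasi-compact homomorphisms of arbitrary group schemes over a field
-/

set_option autoImplicit false

universe u

open CategoryTheory CategoryTheory.Limits MonoidalCategory CartesianMonoidalCategory MonObj GrpObj AlgebraicGeometry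

attribute [local instance] CategoryTheory.Hom.monoid CategoryTheory.Hom.group
set_option linter.style.haveILetI false
set_option linter.unusedSectionVars false

namespace Groth.Agent.Deform.FieldHom

noncomputable section

variable {S : Scheme.{u}}

/-- A point over a given point lifts after an extension. -/
theorem exists_lift_point {H G T : Over S} (f : H ⟶ G) (g : T ⟶ G) (r : T.left) (h : g.left r ∈ Set.range f.left) :
    ∃ (T' : Over S) (q : T' ⟶ T) (t : T' ⟶ H) (r' : T'.left), t ≫ f = q ≫ g ∧ q.left r' = r := by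
  obtain ⟨a, ha⟩ := h
  obtain ⟨z, -, hz⟩ := Scheme.Pullback.exists_preimage_pullback (f := f.left) (g := g.left) a r ha
  exact ⟨Over.mk (pullback.snd f.left g.left ≫ T.hom), Over.homMk (pullback.snd f.left g.left) rfl,
    Over.homMk (pullback.fst f.left g.left)
      (by show _ ≫ H.hom = pullback.snd f.left g.left ≫ T.hom; rw [← Over.w f, pullback.condition_assoc, Over.w g]),
    z, Over.OverMorphism.ext pullback.condition, hz⟩

/-- The maximal points lie in the range of a quasi-compact morphism of dense range. -/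
theorem mem_range_of_isMaxPt {W Y : Scheme.{u}} (w : W ⟶ Y) [QuasiCompact w] (hd : Dense (Set.range w)) {p : Y}
    (hp : GrpSchLib.IsMaxPt p) : p ∈ Set.range w := by
  obtain ⟨z, hz⟩ := GenSub.Spread.exists_specializes_of_closure_range w (hd p)
  exact ⟨z, hp _ hz⟩

theorem exists_translate_mem {H T : Over S} [GrpObj H] (ξ : T ⟶ H) (s₀ : T.left) {D : Set H.left}
    (hD : ∀ z : (H ⊗ T).left, GrpSchLib.IsMaxPt z → (fst H T).left z ∈ D) :
    ∃ (T' : Over S) (x : T' ⟶ H ⊗ T) (r : T'.left), (x ≫ fst H T).left r ∈ D ∧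
      ((x ≫ snd H T ≫ ξ) * (x ≫ fst H T)).left r ∈ D := by
  let τ : H ⊗ T ≅ H ⊗ T :=
    { hom := lift ((snd H T ≫ ξ) * fst H T) (snd H T)
      inv := lift ((snd H T ≫ ξ)⁻¹ * fst H T) (snd H T)
      hom_inv_id := by apply CartesianMonoidalCategory.hom_ext <;> simp [MonObj.comp_mul, GrpObj.comp_inv]
      inv_hom_id := by apply CartesianMonoidalCategory.hom_ext <;> simp [MonObj.comp_mul] }
  have hτf : τ.hom ≫ fst H T = (snd H T ≫ ξ) * fst H T := lift_fst _ _
  haveI : IsIso τ.hom.left := ((Over.forget _).mapIso τ).isIso_hom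
  clear_value τ
  obtain ⟨w, hw, -⟩ := GrpSchLib.exists_isMaxPt ((lift (1 : T ⟶ H) (𝟙 T)).left s₀)
  obtain ⟨T', x, r, -, hx⟩ := GenSub.exists_point (H ⊗ T) w
  refine ⟨T', x, r, ?_, ?_⟩
  · rw [Over.comp_left, Scheme.Hom.comp_apply, hx]
    exact hD w hw
  · rw [← MonObj.comp_mul, ← hτf, Over.comp_left, Over.comp_left, Scheme.Hom.comp_apply, Scheme.Hom.comp_apply, hx]
    exact hD _ (hw.map τ.hom.left.isOpenEmbedding.generalizingMap)

variable {k : Type u} [Field k] {H G : Over (Spec (CommRingCat.of k))} [GrpObj H] [GrpObj G]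

/-- **A dominant quasi-compact homomorphism of group schemes over a field is surjective.** -/
theorem surjective_of_denseRange (f : H ⟶ G) [IsMonHom f] [QuasiCompact f.left] (hf : DenseRange f.left) :
    Surjective f.left := by
  refine ⟨fun p => ?_⟩
  let T : Over (Spec (CommRingCat.of k)) := Over.mk (G.left.fromSpecResidueField p ≫ G.hom)
  let ξ : T ⟶ G := Over.homMk (G.left.fromSpecResidueField p) rfl
  obtain ⟨s₀⟩ : Nonempty (Spec (G.left.residueField p)) := inferInstance
  haveI : UniversallyOpen T.hom := VarGeom.universallyOpen_of_field (k := k) _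
  have hop : IsOpenMap (fst G T).left := Scheme.Hom.isOpenMap (pullback.fst G.hom T.hom)
  have hD : ∀ z : (G ⊗ T).left, GrpSchLib.IsMaxPt z → (fst G T).left z ∈ Set.range f.left := by
    intro z hz
    let φ := pullback.fst (fst G T).left f.left
    have hr : Set.range φ = (fst G T).left ⁻¹' Set.range f.left := Scheme.Pullback.range_fst _ _
    haveI : QuasiCompact φ := MorphismProperty.pullback_fst _ _ inferInstance
    exact hr.le (mem_range_of_isMaxPt φ (hr ▸ (show Dense (Set.range f.left) from hf).preimage hop) hz)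
  obtain ⟨T', x, r, h1, h2⟩ := exists_translate_mem ξ s₀ hD
  obtain ⟨T₁, q₁, a, r₁, ha, hr₁⟩ := exists_lift_point f (x ≫ fst G T) r h1
  obtain ⟨T₂, q₂, b, r₂, hb, hr₂⟩ := exists_lift_point f (q₁ ≫ ((x ≫ snd G T ≫ ξ) * (x ≫ fst G T))) r₁
    (by rw [Over.comp_left, Scheme.Hom.comp_apply, hr₁]; exact h2)
  have h : (b * (q₂ ≫ a)⁻¹) ≫ f = q₂ ≫ q₁ ≫ x ≫ snd G T ≫ ξ := by
    rw [MonObj.mul_comp, GrpObj.inv_comp, Category.assoc, ha, hb, ← Category.assoc q₂, ← Category.assoc q₂,
      MonObj.comp_mul, Category.assoc, mul_inv_cancel_right]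
  refine ⟨(b * (q₂ ≫ a)⁻¹).left r₂, ?_⟩
  rw [← Scheme.Hom.comp_apply, ← Over.comp_left, h]
  simp only [Over.comp_left, Scheme.Hom.comp_apply]
  exact Set.mem_singleton_iff.mp ((Scheme.range_fromSpecResidueField p).le ⟨_, rfl⟩)

omit [GrpObj H] [GrpObj G] in
theorem isSchemeTheoreticallyDominant_whisker {K : Over (Spec (CommRingCat.of k))} (g : H ⟶ K) [QuasiCompact g.left]
    [IsSchemeTheoreticallyDominant g.left] (A : Over (Spec (CommRingCat.of k))) :
    IsSchemeTheoreticallyDominant (g ▷ A).left ∧ IsSchemeTheoreticallyDominant (A ◁ g).left := by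
  haveI : Flat A.hom := AssLib.flat_over_field A.hom
  haveI : Flat (fst K A).left := inferInstanceAs (Flat (Limits.pullback.fst K.hom A.hom))
  haveI h := IsSchemeTheoreticallyDominant.of_isPullback (f := g.left) (g := (fst K A).left)
    (GrpSchLib.isPullback_whiskerRight g A).flip
  refine ⟨h, ?_⟩
  have e : A ◁ g = (β_ A H).hom ≫ (g ▷ A) ≫ (β_ K A).hom := by
    apply CartesianMonoidalCategory.hom_ext <;> simp
  haveI : IsIso (β_ A H).hom.left := ((Over.forget _).mapIso (β_ A H)).isIso_hom
  haveI : IsIso (β_ K A).hom.left := ((Over.forget _).mapIso (β_ K A)).isIso_hom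
  rw [e, Over.comp_left, Over.comp_left]
  infer_instance

/-- **The schematic image of a quasi-compact homomorphism is a closed subgroup scheme.** -/
theorem exists_image (f : H ⟶ G) [IsMonHom f] [QuasiCompact f.left] :
    ∃ (H' : Over (Spec (CommRingCat.of k))) (_ : GrpObj H') (i : H' ⟶ G) (f' : H ⟶ H'),
      IsMonHom i ∧ IsMonHom f' ∧ f' ≫ i = f ∧ IsClosedImmersion i.left ∧
      IsSchemeTheoreticallyDominant f'.left ∧ QuasiCompact f'.left ∧ Surjective f'.left := by
  let K : Over (Spec (CommRingCat.of k)) := Over.mk (f.left.imageι ≫ G.hom)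
  let i : K ⟶ G := Over.homMk f.left.imageι rfl
  let g : H ⟶ K := Over.homMk f.left.toImage (by
    show f.left.toImage ≫ f.left.imageι ≫ G.hom = H.hom
    rw [Scheme.Hom.toImage_imageι_assoc, Over.w f])
  have hgi : g ≫ i = f := Over.OverMorphism.ext f.left.toImage_imageι
  haveI : IsClosedImmersion i.left := inferInstanceAs (IsClosedImmersion f.left.imageι)
  haveI : IsSchemeTheoreticallyDominant g.left := Triage.SchDense.isSchemeTheoreticallyDominant_toImage f.left
  haveI : QuasiCompact g.left := by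
    have : QuasiCompact (g.left ≫ i.left) := by rw [← Over.comp_left, hgi]; infer_instance
    exact QuasiCompact.of_comp g.left i.left
  haveI : Mono i := (Over.forget _).mono_of_mono_map (inferInstanceAs (Mono i.left))
  have hgg : ((g ▷ H) ≫ (K ◁ g)).left.ker = ⊥ := by
    haveI := (isSchemeTheoreticallyDominant_whisker g H).1
    haveI := (isSchemeTheoreticallyDominant_whisker g K).2
    haveI : IsSchemeTheoreticallyDominant ((g ▷ H) ≫ (K ◁ g)).left := by rw [Over.comp_left]; infer_instance
    exact Scheme.Hom.ker_eq_bot _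
  let d : K ⊗ K ⟶ G := (fst K K ≫ i)⁻¹ * (snd K K ≫ i)
  have hd : ((g ▷ H) ≫ (K ◁ g)) ≫ d = ((fst H H)⁻¹ * snd H H) ≫ f := by
    rw [MonObj.mul_comp, GrpObj.inv_comp, MonObj.comp_mul, GrpObj.comp_inv]
    simp [hgi]
  have hker : i.left.ker ≤ d.left.ker := by
    have h1 : f.left.ker = i.left.ker := by
      rw [← hgi, Over.comp_left, Scheme.Hom.ker_comp, g.left.ker_eq_bot, Scheme.IdealSheafData.map_bot]
    have h2 : (((g ▷ H) ≫ (K ◁ g)) ≫ d).left.ker = d.left.ker := by
      rw [Over.comp_left, Scheme.Hom.ker_comp, hgg, Scheme.IdealSheafData.map_bot]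
    rw [← h1, ← h2, hd, Over.comp_left]
    exact Scheme.Hom.le_ker_comp _ _
  let m : K ⊗ K ⟶ K := Over.homMk (IsClosedImmersion.lift i.left d.left hker)
    (by rw [← Over.w i, ← Category.assoc, IsClosedImmersion.lift_fac]; exact Over.w d)
  have hm : m ≫ i = d := Over.OverMorphism.ext (IsClosedImmersion.lift_fac _ _ _)
  have hdiv : ∀ {T : Over (Spec (CommRingCat.of k))} (a b : T ⟶ K), (lift a b ≫ m) ≫ i = (a ≫ i)⁻¹ * (b ≫ i) := by
    intro T a b
    rw [Category.assoc, hm, MonObj.comp_mul, GrpObj.comp_inv, lift_fst_assoc, lift_snd_assoc]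
  have he : ∀ T : Over (Spec (CommRingCat.of k)), ((1 : T ⟶ H) ≫ g) ≫ i = 1 := fun T => by
    rw [Category.assoc, hgi, MonObj.one_comp]
  have hv : (lift (𝟙 K) ((1 : K ⟶ H) ≫ g) ≫ m) ≫ i = i⁻¹ := by
    rw [hdiv, he, Category.id_comp, _root_.mul_one]
  obtain ⟨str, hi⟩ := GrpSchLib.exists_grpObj_of_mono i ((1 : 𝟙_ _ ⟶ H) ≫ g)
    (by rw [he, MonObj.one_eq_one]) (lift (fst K K ≫ lift (𝟙 K) ((1 : K ⟶ H) ≫ g) ≫ m) (snd K K) ≫ m)
    (by rw [hdiv, Category.assoc, hv, GrpObj.comp_inv, _root_.inv_inv]) (lift (𝟙 K) ((1 : K ⟶ H) ≫ g) ≫ m) hv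
  haveI := hi
  haveI hg : IsMonHom g :=
    { one_hom := by rw [← cancel_mono i, Category.assoc, hgi, IsMonHom.one_hom f, IsMonHom.one_hom i]
      mul_hom := by
        rw [← cancel_mono i, Category.assoc, hgi, IsMonHom.mul_hom f, Category.assoc, IsMonHom.mul_hom i,
          MonoidalCategory.tensorHom_comp_tensorHom_assoc, hgi] }
  exact ⟨K, str, i, g, hi, hg, hgi, inferInstance, inferInstance, inferInstance,
    surjective_of_denseRange g g.left.denseRange⟩

omit [GrpObj H] [GrpObj G] in
theorem flat_fromSpecResidueField_of_isMaxPt {X : Scheme.{u}} [IsReduced X] {ν : X} (hν : GrpSchLib.IsMaxPt ν) :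
    Flat (X.fromSpecResidueField ν) := by
  haveI := GrpSchLib.flat_fromSpecStalk ν
  have hd : ringKrullDim (X.presheaf.stalk ν) = 0 := by
    rw [ringKrullDim_stalk_eq_coheight]
    simp only [WithBot.coe_eq_zero, Order.coheight_eq_zero]
    intro y hy
    exact le_of_eq (hν y hy)
  haveI : Ring.KrullDimLE 0 (X.presheaf.stalk ν) := Ring.krullDimLE_iff.2 (by simpa using hd.le)
  have hF : IsField (X.presheaf.stalk ν) := Ring.KrullDimLE.isField_of_isReduced
  haveI : IsIso (X.residue ν) := by
    refine (ConcreteCategory.isIso_iff_bijective _).2 ⟨?_, X.residue_surjective ν⟩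
    let _ := hF.toField
    exact (X.residue ν).hom.injective
  show Flat (Spec.map (X.residue ν) ≫ X.fromSpecStalk ν)
  infer_instance

/-- **A dominant quasi-compact homomorphism to a reduced group scheme is flat.** -/
theorem flat_of_denseRange (f : H ⟶ G) [IsMonHom f] [QuasiCompact f.left] (hf : DenseRange f.left) [IsReduced G.left] :
    Flat f.left := by
  obtain ⟨ν, hν, -⟩ := GrpSchLib.exists_isMaxPt (η[G].left (IsLocalRing.closedPoint k))
  obtain ⟨x₀, hx₀⟩ := mem_range_of_isMaxPt f.left hf hν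
  haveI := flat_fromSpecResidueField_of_isMaxPt hν
  let W : Over (Spec (CommRingCat.of k)) := Over.mk (G.left.fromSpecResidueField ν ≫ G.hom)
  let w : W ⟶ G := Over.homMk (G.left.fromSpecResidueField ν) rfl
  let P : Over (Spec (CommRingCat.of k)) := Over.mk (pullback.fst f.left w.left ≫ H.hom)
  let p₁ : P ⟶ H := Over.homMk (pullback.fst f.left w.left) rfl
  let p₂ : P ⟶ W := Over.homMk (pullback.snd f.left w.left)
    (by show _ ≫ W.hom = pullback.fst f.left w.left ≫ H.hom; rw [← Over.w f, pullback.condition_assoc, Over.w w])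
  have hp : p₁ ≫ f = p₂ ≫ w := Over.OverMorphism.ext pullback.condition
  haveI : Flat w.left := inferInstanceAs (Flat (G.left.fromSpecResidueField ν))
  haveI : Flat p₁.left := inferInstanceAs (Flat (pullback.fst f.left w.left))
  haveI : Flat p₂.left := by
    show Flat (pullback.snd f.left w.left)
    exact AssLib.flat_over_field (k := G.left.residueField ν) _
  haveI : Flat H.hom := AssLib.flat_over_field H.hom
  haveI : Flat G.hom := AssLib.flat_over_field G.hom
  let φ : P ⊗ H ⟶ H := (fst P H ≫ p₁) * snd P H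
  let τ : H ⊗ H ≅ H ⊗ H :=
    { hom := lift (fst H H * snd H H) (snd H H)
      inv := lift (fst H H * (snd H H)⁻¹) (snd H H)
      hom_inv_id := by apply CartesianMonoidalCategory.hom_ext <;> simp [MonObj.comp_mul, GrpObj.comp_inv]
      inv_hom_id := by apply CartesianMonoidalCategory.hom_ext <;> simp [MonObj.comp_mul] }
  let υ : G ⊗ H ≅ G ⊗ H :=
    { hom := lift (fst G H * (snd G H ≫ f)) (snd G H)
      inv := lift (fst G H * (snd G H ≫ f)⁻¹) (snd G H)
      hom_inv_id := by apply CartesianMonoidalCategory.hom_ext <;> simp [MonObj.comp_mul, GrpObj.comp_inv]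
      inv_hom_id := by apply CartesianMonoidalCategory.hom_ext <;> simp [MonObj.comp_mul] }
  haveI : IsIso τ.hom.left := ((Over.forget _).mapIso τ).isIso_hom
  haveI : IsIso υ.hom.left := ((Over.forget _).mapIso υ).isIso_hom
  have hwr : ∀ {A B : Over (Spec (CommRingCat.of k))} (c : A ⟶ B), Flat c.left → Flat (c ▷ H).left := by
    intro A B c hc
    exact MorphismProperty.of_isPullback (GrpSchLib.isPullback_whiskerRight c H).flip hc
  have hfst : ∀ A : Over (Spec (CommRingCat.of k)), Flat (fst A H).left := fun A =>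
    inferInstanceAs (Flat (pullback.fst A.hom H.hom))
  have hφ : Flat φ.left := by
    have e : φ = (p₁ ▷ H) ≫ τ.hom ≫ fst H H := by
      simp [φ, τ, MonObj.comp_mul]
    rw [e, Over.comp_left, Over.comp_left]
    haveI := hwr p₁ inferInstance; haveI := hfst H
    infer_instance
  have hφf : Flat (φ.left ≫ f.left) := by
    have e : φ ≫ f = (p₂ ▷ H) ≫ (w ▷ H) ≫ υ.hom ≫ fst G H := by
      simp [φ, υ, MonObj.comp_mul, MonObj.mul_comp, hp]
    rw [← Over.comp_left, e, Over.comp_left, Over.comp_left, Over.comp_left]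
    haveI := hwr p₂ inferInstance; haveI := hwr w inferInstance; haveI := hfst G
    infer_instance
  obtain ⟨b, hb, -⟩ := Scheme.Pullback.exists_preimage_pullback (f := f.left) (g := w.left) x₀
    (IsLocalRing.closedPoint _) (hx₀.trans (Scheme.fromSpecResidueField_apply _ _).symm)
  haveI := hφ
  refine Flat.of_stalkMap _ fun g => ?_
  obtain ⟨T, ξ, r, -, hξ⟩ := GenSub.exists_point H g
  obtain ⟨a, ha₁, ha₂⟩ := Scheme.Pullback.exists_preimage_pullback (f := P.hom) (g := T.hom) b r (Subsingleton.elim _ _)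
  have hg : φ.left ((lift (fst P T) ((fst P T ≫ p₁)⁻¹ * (snd P T ≫ ξ))).left a) = g := by
    rw [← Scheme.Hom.comp_apply, ← Over.comp_left,
      show lift (fst P T) ((fst P T ≫ p₁)⁻¹ * (snd P T ≫ ξ)) ≫ φ = snd P T ≫ ξ by
        simp [φ, MonObj.comp_mul],
      Over.comp_left, Scheme.Hom.comp_apply]
    exact hξ _
  rw [← hg]
  exact SrcDescent.flat_of_flat_comp φ.left f.left _ hφf

end

end Groth.Agent.Deform.FieldHom
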