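import Groth.Agent.Deform.FieldHom.Dominant
import Groth.Agent.GrpSchLib.FieldReduced
import Groth.Agent.GrpSchLib.AffineHopf
import Groth.Agent.GrpSchLib.HopfGalois
import Groth.Agent.H23.RedSub
import Groth.Agent.S4103
import Mathlib.AlgebraicGeometry.Morphisms.FlatMono

/-!
# Quasi-compact monomorphisms to affine groups over a field
-/

set_option autoImplicit false

universe u

open CategoryTheory CategoryTheory.Limits MonoidalCategory CartesianMonoidalCategory MonObj GrpObj AlgebraicGeometry

attribute [local instance] CategoryTheory.Hom.monoid CategoryTheory.Hom.group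
set_option linter.style.haveILetI false
set_option linter.unusedSectionVars false

namespace Groth.Agent.Deform.FieldHom

noncomputable section

section Reduced

variable {K : Type u} [Field K] [PerfectField K]

/-- The reduced subgroup of a group over a perfect field. -/
theorem exists_reduced_subgroup (G : Over (Spec (CommRingCat.of K))) [GrpObj G] :
    ∃ (R : Over (Spec (CommRingCat.of K))) (_ : GrpObj R) (j : R ⟶ G), IsMonHom j ∧ IsClosedImmersion j.left ∧
      Surjective j.left ∧ IsReduced R.left := by
  let Z : TopologicalSpace.Closeds G.left := ⊤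
  let 𝒥 := Scheme.IdealSheafData.vanishingIdeal Z
  let R : Over (Spec (CommRingCat.of K)) := Over.mk (𝒥.subschemeι ≫ G.hom)
  let j : R ⟶ G := Over.homMk 𝒥.subschemeι rfl
  haveI : IsReduced R.left := H23.RedSub.isReduced_vanishingIdeal Z
  haveI : IsClosedImmersion j.left := inferInstanceAs (IsClosedImmersion 𝒥.subschemeι)
  haveI : Mono j := (Over.forget _).mono_of_mono_map (inferInstanceAs (Mono j.left))
  haveI : Surjective j.left := ⟨fun x => (H23.RedSub.range_vanishingIdeal Z).ge (Set.mem_univ x)⟩
  haveI : IsReduced (R ⊗ R).left := GrpSchLib.isReduced_pullback_of_perfectField R.hom R.hom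
  haveI : IsReduced (𝟙_ (Over (Spec (CommRingCat.of K)))).left := inferInstanceAs (IsReduced (Spec (CommRingCat.of K)))
  have hl : ∀ {T : Over (Spec (CommRingCat.of K))} [IsReduced T.left] (g : T ⟶ G), ∃ h, h ≫ j = g := by
    intro T _ g
    obtain ⟨l, hl⟩ := H23.RedSub.exists_lift_closed g.left j.left fun x _ => j.left.surjective x
    exact ⟨Over.homMk l (by rw [← Over.w j, reassoc_of% hl, Over.w g]), Over.OverMorphism.ext hl⟩
  obtain ⟨e, he⟩ := hl η[G]
  obtain ⟨m, hm⟩ := hl ((fst R R ≫ j) * (snd R R ≫ j))
  obtain ⟨v, hv⟩ := hl j⁻¹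
  obtain ⟨str, hj⟩ := GrpSchLib.exists_grpObj_of_mono j e he m hm v hv
  exact ⟨R, str, j, hj, inferInstance, inferInstance, inferInstance⟩

/-- A surjective quasi-compact monomorphism of groups over a perfect field is a closed map. -/
theorem isClosedMap_of_mono {G H : Over (Spec (CommRingCat.of K))} [GrpObj G] [GrpObj H] (f : G ⟶ H) [IsMonHom f]
    [Mono f.left] [QuasiCompact f.left] [Surjective f.left] : IsClosedMap f.left := by
  obtain ⟨R, iR, j, hj, hjc, hjs, hR⟩ := exists_reduced_subgroup G
  obtain ⟨R', iR', j', hj', hjc', hjs', hR'⟩ := exists_reduced_subgroup H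
  haveI := hj; haveI := hj'; haveI := hjc; haveI := hjc'; haveI := hjs; haveI := hjs'; haveI := hR; haveI := hR'
  obtain ⟨l, hl⟩ := H23.RedSub.exists_lift_closed (j ≫ f).left j'.left fun x _ => j'.left.surjective x
  let g : R ⟶ R' := Over.homMk l (by rw [← Over.w j', reassoc_of% hl, Over.w])
  have hg : g ≫ j' = j ≫ f := Over.OverMorphism.ext hl
  haveI : Mono j' := (Over.forget _).mono_of_mono_map (inferInstanceAs (Mono j'.left))
  haveI : IsMonHom g :=
    { one_hom := by rw [← cancel_mono j', Category.assoc, hg, IsMonHom.one_hom j', IsMonHom.one_hom_assoc,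
        IsMonHom.one_hom]
      mul_hom := by rw [← cancel_mono j', Category.assoc, hg, IsMonHom.mul_hom_assoc, IsMonHom.mul_hom,
        Category.assoc, IsMonHom.mul_hom, MonoidalCategory.tensorHom_comp_tensorHom_assoc,
        MonoidalCategory.tensorHom_comp_tensorHom_assoc, hg] }
  have hgl : g.left ≫ j'.left = j.left ≫ f.left := by rw [← Over.comp_left, hg, Over.comp_left]
  haveI : QuasiCompact g.left := by
    have : QuasiCompact (g.left ≫ j'.left) := by rw [hgl]; infer_instance
    exact QuasiCompact.of_comp g.left j'.left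
  haveI : Mono g.left := mono_of_mono_fac hgl
  haveI : Surjective g.left := ⟨fun y => by
    obtain ⟨x, hx⟩ := (j.left ≫ f.left).surjective (j'.left y)
    refine ⟨x, j'.left.isClosedEmbedding.injective ?_⟩
    rw [← Scheme.Hom.comp_apply, hgl]
    exact hx⟩
  haveI : Flat g.left := flat_of_denseRange g g.left.surjective.denseRange
  haveI := Flat.isIso_of_surjective_of_mono g.left
  intro Z hZ
  have e : f.left '' Z = (g.left ≫ j'.left) '' (j.left ⁻¹' Z) := by
    rw [hgl]
    conv_lhs => rw [← Set.image_preimage_eq Z j.left.surjective]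
    rw [Set.image_image]
    rfl
  rw [e]
  exact (g.left ≫ j'.left).isClosedEmbedding.isClosedMap _ (hZ.preimage j.left.continuous)

end Reduced

variable {k : Type u} [Field k]

/-- A surjective quasi-compact monomorphism of groups over a field is a homeomorphism. -/
theorem isClosedEmbedding_of_mono {G H : Over (Spec (CommRingCat.of k))} [GrpObj G] [GrpObj H] (f : G ⟶ H)
    [IsMonHom f] [Mono f.left] [QuasiCompact f.left] [Surjective f.left] :
    Topology.IsClosedEmbedding f.left := by
  let K := AlgebraicClosure k
  let σ : Spec (CommRingCat.of K) ⟶ Spec (CommRingCat.of k) := Spec.map (CommRingCat.ofHom (algebraMap k K))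
  haveI : IsIntegralHom σ := IsIntegralHom.SpecMap_iff.2
    (Algebra.IsIntegral.isIntegral (R := k) (A := K))
  haveI : Surjective σ := ⟨fun z => ⟨IsLocalRing.closedPoint K, Subsingleton.elim _ _⟩⟩
  let fK := (Over.pullback σ).map f
  have sq : IsPullback (pullback.fst G.hom σ) fK.left f.left (pullback.fst H.hom σ) := by
    have h1 : fK.left ≫ pullback.fst H.hom σ = pullback.fst G.hom σ ≫ f.left := by
      simp only [fK, Over.pullback_map_left]
      exact pullback.lift_fst _ _ _
    have h2 : fK.left ≫ pullback.snd H.hom σ = pullback.snd G.hom σ := by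
      simp only [fK, Over.pullback_map_left]
      exact pullback.lift_snd _ _ _
    refine IsPullback.of_bot ?_ h1.symm (IsPullback.of_hasPullback H.hom σ)
    rw [h2, Over.w f]
    exact IsPullback.of_hasPullback G.hom σ
  haveI : IsMonHom fK := inferInstanceAs (IsMonHom ((Over.pullback σ).map f))
  haveI : QuasiCompact fK.left := MorphismProperty.of_isPullback sq inferInstance
  haveI : Surjective fK.left := MorphismProperty.of_isPullback sq inferInstance
  haveI : Mono fK.left := MorphismProperty.of_isPullback (P := MorphismProperty.monomorphisms Scheme) sq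
    (inferInstanceAs (Mono f.left))
  have hcl : IsClosedMap fK.left := isClosedMap_of_mono fK
  haveI : IsIntegralHom (pullback.fst H.hom σ) := MorphismProperty.pullback_fst _ _ inferInstance
  haveI : Surjective (pullback.fst H.hom σ) := MorphismProperty.pullback_fst _ _ inferInstance
  refine Topology.IsClosedEmbedding.of_continuous_injective_isClosedMap f.left.continuous ?_ ?_
  · intro x y hxy
    obtain ⟨z, hz1, hz2⟩ := Scheme.Pullback.exists_preimage_pullback (f := f.left) (g := f.left) x y hxy
    rw [← hz1, ← hz2, show pullback.fst f.left f.left = pullback.snd f.left f.left from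
      (cancel_mono f.left).mp pullback.condition]
  · intro Z hZ
    rw [← Set.image_preimage_eq (f.left '' Z) (pullback.fst H.hom σ).surjective,
      ← Scheme.image_preimage_eq_of_isPullback sq Z]
    exact (pullback.fst H.hom σ).isClosedMap _ (hcl _ (hZ.preimage (pullback.fst G.hom σ).continuous))

theorem dominant_iso_comp_iso {X' X Y Y' : Scheme.{u}} (a : X' ⟶ X) (b : X ⟶ Y) (c : Y ⟶ Y') (ha : IsIso a) (hc : IsIso c)
    [IsSchemeTheoreticallyDominant b] : IsSchemeTheoreticallyDominant (a ≫ b ≫ c) := by
  infer_instance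

open scoped TensorProduct in
/-- An injective map of Hopf algebras over a field is flat. -/
theorem flat_of_injective {A B : Type u} [CommRing A] [CommRing B] [HopfAlgebra k A] [HopfAlgebra k B]
    (f : A →ₐc[k] B) (hf : Function.Injective f) : (f : A →ₐ[k] B).toRingHom.Flat := by
  let g : A →ₐ[k] B := f
  let R := g.range
  have hR : SGA3.IsHopfSubalgebra k B R := by
    refine ⟨?_, ?_⟩
    · rintro _ ⟨a, rfl⟩
      refine ⟨TensorProduct.map g.rangeRestrict.toLinearMap g.rangeRestrict.toLinearMap (Coalgebra.comul (R := k) a), ?_⟩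
      refine Eq.trans ?_ (CoalgHomClass.map_comp_comul_apply f a)
      generalize Coalgebra.comul (R := k) a = z
      induction z using TensorProduct.induction_on with
      | zero => simp
      | tmul p q => rfl
      | add s t hs ht => simp only [map_add, hs, ht]
    · rintro _ ⟨a, rfl⟩
      exact ⟨_, (GrpSchLib.HopfGalois.antipode_bialgHom f a).symm⟩
  haveI : Module.FaithfullyFlat R B := Groth.Agent.S4103.result k B R hR
  have h1 : R.val.toRingHom.Flat := by
    show Module.Flat R B
    infer_instance
  have h2 : g.rangeRestrict.toRingHom.Flat := RingHom.Flat.of_bijective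
    ⟨fun x y h => hf (congrArg Subtype.val h), g.rangeRestrict_surjective⟩
  exact RingHom.Flat.comp h2 h1

/-- **A quasi-compact monomorphism to an affine group over a field is a closed immersion.** -/
theorem isClosedImmersion_of_mono {G H : Over (Spec (CommRingCat.of k))} [GrpObj G] [GrpObj H] [IsAffine H.left]
    (u : G ⟶ H) [IsMonHom u] [Mono u] [QuasiCompact u.left] : IsClosedImmersion u.left := by
  obtain ⟨H', iH', i, f, hi, hf, hfi, hic, hfd, hfq, hfs⟩ := exists_image u
  haveI := hi; haveI := hf; haveI := hic; haveI := hfd; haveI := hfq; haveI := hfs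
  haveI : Mono f := mono_of_mono_fac hfi
  haveI : Mono f.left := inferInstanceAs (Mono ((Over.forget _).map f))
  haveI : IsAffineHom f.left :=
    isAffineHom_of_isInducing _ (isClosedEmbedding_of_mono f).isInducing (isClosedEmbedding_of_mono f).isClosed_range
  haveI : IsAffine H'.left := isAffine_of_isAffineHom i.left
  haveI : IsAffine G.left := isAffine_of_isAffineHom f.left
  obtain ⟨B, _, _, ⟨eG⟩⟩ := GrpSchLib.AffineHopf.exists_hopf G
  obtain ⟨A, _, _, ⟨eH⟩⟩ := GrpSchLib.AffineHopf.exists_hopf H'
  let φ : GrpSchLib.AffineHopf.sp k B ⟶ GrpSchLib.AffineHopf.sp k A := (eG.hom ≫ Grp.ofHom f ≫ eH.inv).hom.hom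
  haveI : IsMonHom φ := (eG.hom ≫ Grp.ofHom f ≫ eH.inv).hom.isMonHom_hom
  obtain ⟨ψ, hψ⟩ := GrpSchLib.AffineHopf.exists_bialgHom φ
  haveI hG : IsIso eG.hom.hom.hom.left := ((Over.forget _).mapIso ((Grp.forget _).mapIso eG)).isIso_hom
  haveI hH : IsIso eH.inv.hom.hom.left := ((Over.forget _).mapIso ((Grp.forget _).mapIso eH.symm)).isIso_hom
  have hφ : φ.left = eG.hom.hom.hom.left ≫ f.left ≫ eH.inv.hom.hom.left := rfl
  have hspec : φ.left = Spec.map (CommRingCat.ofHom (ψ : A →ₐ[k] B).toRingHom) := by rw [hψ]; rfl
  have hinj : Function.Injective ψ := by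
    haveI : QuasiCompact (f.left ≫ eH.inv.hom.hom.left) := inferInstance
    haveI : IsSchemeTheoreticallyDominant (Spec.map (CommRingCat.ofHom (ψ : A →ₐ[k] B).toRingHom)) := by
      rw [← hspec, hφ]
      exact dominant_iso_comp_iso _ _ _ hG hH
    intro x y hxy
    have h := (Spec.map (CommRingCat.ofHom (ψ : A →ₐ[k] B).toRingHom)).app_injective ⊤
      (a₁ := (Scheme.ΓSpecIso (CommRingCat.of A)).inv x) (a₂ := (Scheme.ΓSpecIso (CommRingCat.of A)).inv y) (by
        have hn := fun z => ConcreteCategory.congr_hom
          (Scheme.ΓSpecIso_inv_naturality (CommRingCat.ofHom (ψ : A →ₐ[k] B).toRingHom)) z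
        simp only [ConcreteCategory.comp_apply] at hn
        exact ((hn x).symm.trans (congrArg (Scheme.ΓSpecIso (CommRingCat.of B)).inv hxy)).trans (hn y))
    exact (Scheme.ΓSpecIso (CommRingCat.of A)).commRingCatIsoToRingEquiv.symm.injective h
  haveI : Flat φ.left := by
    rw [hspec]
    show Flat (Spec.map (CommRingCat.ofHom (ψ : A →ₐ[k] B).toRingHom))
    rw [HasRingHomProperty.Spec_iff (P := @Flat)]
    exact flat_of_injective ψ hinj
  haveI : Flat f.left := by
    have e : f.left = inv eG.hom.hom.hom.left ≫ φ.left ≫ inv eH.inv.hom.hom.left := by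
      rw [hφ, Category.assoc, Category.assoc, IsIso.hom_inv_id, Category.comp_id, IsIso.inv_hom_id_assoc]
    rw [e]
    infer_instance
  haveI := Flat.isIso_of_surjective_of_mono f.left
  rw [← hfi, Over.comp_left]
  infer_instance

end

end Groth.Agent.Deform.FieldHom
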